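import Cfsg.Agent.Lib.Ess.Sp4

/-!
Fusion systems of sectional rank three with normal essential subgroups.
-/

set_option autoImplicit false
set_option linter.style.haveILetI false
set_option linter.unusedVariables false
set_option linter.unusedSectionVars false

namespace Cfsg.Agent.Ess

open Subgroup Cfsg.Agent.Fus Cfsg.Agent.TwoGrp
open Cfsg.FusionSystem (normalizerIn centralizerIn)
open Cfsg.Agent.Fus2 (M afn img HomOn)
open scoped commutatorElement

universe u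

section Tools

variable {G : Type u} [Group G] [Finite G] {p : ℕ} [hp : Fact p.Prime]

theorem sectional_two_of_card (h : Nat.card G = p ^ 3) (hna : ¬ ∀ x y : G, Commute x y) :
    SectionalPRankLE p 2 G := fun H N _ A hA _ => by_contra fun e => by
  have hG : IsPGroup p G := IsPGroup.of_card h
  obtain ⟨k, hk⟩ := (((hG.to_subgroup H).to_quotient N).to_subgroup A).exists_card_eq
  have e₀ : p ^ 3 ≤ Nat.card A := by
    rw [hk, Nat.pow_le_pow_iff_right hp.out.one_lt] at e ⊢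
    omega
  have e₁ := card_le_card_group A
  have e₂ := card_le_card_group H
  have e₃ := card_eq_card_quotient_mul_card_subgroup N
  have hA' : A = ⊤ := eq_top_of_le_card A (by nlinarith [Nat.card_pos (α := N)])
  have hH : H = ⊤ := eq_top_of_le_card H (by nlinarith [Nat.card_pos (α := N)])
  have hN : N = ⊥ := Subgroup.eq_bot_of_card_le N (by nlinarith [pow_pos hp.out.pos 3])
  refine hna fun x y => commutatorElement_eq_one_iff_commute.1 ?_
  have : Commute ((⟨x, hH.ge trivial⟩ : H) : H ⧸ N) (⟨y, hH.ge trivial⟩ : H) :=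
    congrArg Subtype.val (hA.1.1 ⟨_, hA'.ge trivial⟩ ⟨_, hA'.ge trivial⟩)
  exact congrArg Subtype.val (hN.le (mk_commute_iff.1 this))

theorem Cubic.prl {V W : Subgroup G} {g : G} (h : Cubic p V g) (hg : g ∈ W) (hi : W.index = p) :
    Nat.card W = p ^ 3 ∧ ¬ ∀ x y : W, Commute x y := by
  haveI := normal_of_index (IsPGroup.of_card h.card) hi
  obtain ⟨v, -, hv⟩ := h.cub
  exact ⟨card_eq_of_index (n := 1) hp.out.pos h.card (by simpa using hi), fun e =>
    hv (commutatorElement_eq_one_iff_commute.2 (congrArg Subtype.val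
      (e ⟨_, comm_mem_of_mem_normalizer (mem_norm_of_normal v) hg⟩ ⟨g, hg⟩).eq))⟩

end Tools

section Fusion

variable {Ω : Type u} [Group Ω] {S : Subgroup Ω} {F : FusionSystem S} {E E₂ : Subgroup Ω} {p : ℕ}
  [Finite S] [hp : Fact p.Prime] (hS : IsPGroup p S) (hF : F.IsSaturated p) (h2 : p ≠ 2)
include hS hF h2

theorem not_index_center (hsr : ¬ SectionalPRankLE p 2 S) (hcore : F.core = ⊥)
    (hE : F.IsEssential p E) : ¬ (center S).index ∣ p ^ 2 := fun e => by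
  have hna := not_comm_of_essential hS hF hE
  obtain ⟨z, hz⟩ := exists_idxSq hS (by rwa [relIndex, cen_subgroupOf]) hna
  exact hsr (sectional_two_of_card (hz.card (hz.cen_le_of_odd hS hF h2 hcore))
    fun e => hna fun x hx y hy => congrArg Subtype.val (e ⟨x, hx⟩ ⟨y, hy⟩).eq)

omit hS hF h2 in
theorem normalizerIn_eq_of_inv (hE : E ≤ S) (h : Inv (F.autGroup S) (E.subgroupOf S)) :
    normalizerIn S E = S := inf_eq_left.2 (le_normalizer_of_normal_subgroupOf hE
  (normal_of_inv_Inn (h.mono (Inn_le_autGroup le_rfl))))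

theorem cubic_of_char (hr : SR p S) (hsr : ¬ SectionalPRankLE p 2 S) (hcore : F.core = ⊥)
    (hne : E ≠ E₂) (hE : F.IsEssential p E) (hE₂ : F.IsEssential p E₂)
    (i₁ : Inv (F.autGroup S) (E.subgroupOf S)) (i₂ : Inv (F.autGroup S) (E₂.subgroupOf S)) :
    (∃ g : S, (g : Ω) ∈ E₂ ∧ Cubic p (E.subgroupOf S) g) ∨
      ∃ g : S, (g : Ω) ∈ E ∧ Cubic p (E₂.subgroupOf S) g := by
  obtain ⟨A, h, x, -⟩ := exists_lvl hS hF hr hE (normalizerIn_eq_of_inv hE.1.1 i₁)
  obtain ⟨A₂, h', x', -⟩ := exists_lvl hS hF hr hE₂ (normalizerIn_eq_of_inv hE₂.1.1 i₂)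
  exact (h.two_char h2 hr h' (fun e => hne (by
    rwa [subgroupOf_inj, inf_eq_left.2 hE.1.1, inf_eq_left.2 hE₂.1.1] at e)) x x' i₁ i₂).resolve_left
    (not_index_center hS hF h2 hsr hcore hE)

theorem exists_cubic (hr : SR p S) (hsr : ¬ SectionalPRankLE p 2 S) (hcore : F.core = ⊥)
    (hn : ∀ E, F.IsEssential p E → S ≤ normalizer (E : Set Ω)) :
    ∃ (V : Subgroup S) (g : S) (E : Subgroup Ω), F.IsEssential p E ∧ (g : Ω) ∈ E ∧ Cubic p V g := by
  by_cases hc : ∀ E, F.IsEssential p E → Inv (F.autGroup S) (E.subgroupOf S)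
  · obtain ⟨E, hE⟩ := exists_essential hS hF hcore (by
      rintro rfl
      exact hsr fun H N _ A _ _ => (card_le_card_group A).trans ((Finite.card_le_one_iff_subsingleton.2
        inferInstance).trans (Nat.one_le_pow _ _ hp.out.pos)))
    obtain ⟨E₂, hE₂, hne⟩ : ∃ E₂, F.IsEssential p E₂ ∧ E ≠ E₂ := by_contra fun e => by
      push Not at e
      obtain ⟨A, h, -⟩ := exists_lvl hS hF hr hE (inf_eq_left.2 (hn E hE))
      refine h.ne_bot ?_
      rw [eq_bot_of_isNormal hcore (isNormal_of_essential hS hF (Q := E) ?_), bot_subgroupOf]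
      rintro P (rfl | hP)
      · exact ⟨hE.1.1, fun α hα x hx => inv_subgroupOf_iff.1 (hc E hE) α hα x (hE.1.1 hx) hx⟩
      · obtain rfl := e P hP
        exact ⟨le_rfl, fun α _ x hx => Fus2.afn_mem α hx⟩
    rcases cubic_of_char hS hF h2 hr hsr hcore hne hE hE₂ (hc E hE) (hc E₂ hE₂) with
      ⟨g, h₁, h₂⟩ | ⟨g, h₁, h₂⟩
    exacts [⟨_, g, _, hE₂, h₁, h₂⟩, ⟨_, g, _, hE, h₁, h₂⟩]
  push Not at hc
  obtain ⟨E, hE, hB⟩ := hc
  obtain ⟨A, h, -⟩ := exists_lvl hS hF hr hE (inf_eq_left.2 (hn E hE))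
  obtain ⟨T, ⟨hT, hTB⟩, hmax⟩ := exists_largest (P := fun X => AI A X ∧ Inv (F.autGroup S) X)
    ⟨ai_bot, inv_bot _⟩ fun X Y hX hY => ⟨hX.1.sup hY.1, hX.2.sup hY.2⟩
  obtain ⟨C, w, z, tp, -⟩ := h.exists_tp h2 hr hB hT hTB fun X a b => hmax X ⟨a, b⟩
  have hu : ⁅w, z⁆ ≠ 1 := fun e => not_index_center hS hF h2 hsr hcore hE (tp.index_center e)
  obtain ⟨V, hV, hm⟩ : ∃ V, F.IsEssential p V ∧ ¬ ∀ α ∈ F.autGroup V,
      ∀ x ∈ (zpowers ⁅w, z⁆).map S.subtype, afn α x ∈ (zpowers ⁅w, z⁆).map S.subtype :=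
    by_contra fun e => by
      push Not at e
      refine hu (Subtype.ext ((eq_bot_of_isNormal hcore (isNormal_of_essential hS hF
        (Q := (zpowers ⁅w, z⁆).map S.subtype) ?_)).le ⟨_, mem_zpowers _, rfl⟩))
      rintro P (rfl | hP)
      · refine ⟨map_subtype_le _, ?_⟩
        rintro α hα _ ⟨x, hx, rfl⟩
        exact ⟨_, tp.invU ⊤ α trivial x hx, (Fus2.afn_coe _ _).symm⟩
      · refine ⟨?_, e P hP⟩
        rintro _ ⟨x, hx, rfl⟩
        exact mem_of_commute hP.1 x.2 fun y hy =>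
          (commute_of_zpowers (tp.uc ⟨y, hP.1.1 hy⟩) x hx).map S.subtype
  obtain ⟨A', h', x', push⟩ := exists_lvl hS hF hr hV (inf_eq_left.2 (hn V hV))
  refine ⟨_, w, E, hE, tp.wE, tp.cubic_of_move h2 hr hu h'
    (fun X hX hI => h'.ai_of_ext x' hX (hI.mono le_top)) fun e => hm ?_⟩
  rintro α hα _ ⟨x, hx, rfl⟩
  obtain ⟨α', hα', e'⟩ := push α hα
  exact ⟨_, e.2 α' hα' x hx, e' x (e.1 hx)⟩

theorem prl_of_cubic (hr : SR p S) (hE : F.IsEssential p E) (hn : normalizerIn S E = S)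
    {V : Subgroup S} {g : S} (hg : (g : Ω) ∈ E) (h : Cubic p V g) :
    Nat.card E = p ^ 3 ∧ ¬ ∀ x y : E, Commute x y := by
  have hi := relIndex_normalizerIn hS hF hr hE
  rw [hn] at hi
  rcases Prl.of_equiv (Or.inr (h.prl (W := E.subgroupOf S) hg hi)) (subgroupOfEquivOfLe hE.1.1)
    with e | e
  · rw [← Nat.card_congr (subgroupOfEquivOfLe hE.1.1).toEquiv, (h.prl hg hi).1] at e
    exact absurd (Nat.pow_right_injective hp.out.two_le e) (by decide)
  · exact e

theorem extra_elem_of_cubic (hr : SR p S) (hE : F.IsEssential p E) (hE₂ : E₂ ≤ S)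
    (hn : normalizerIn S E = S) {g : S} (hg : (g : Ω) ∈ E) (h : Cubic p (E₂.subgroupOf S) g) :
    IsExtraspecial p E ∧ Nat.card E = p ^ 3 ∧ (∀ x ∈ E, x ^ p = 1) ∧
      IsElementaryAbelian p E₂ ∧ Nat.card E₂ = p ^ 3 := by
  have h₁ := prl_of_cubic hS hF h2 hr hE hn hg h
  obtain ⟨e₁, e₂, e₃⟩ := (pearl_of_prl hS hF h2 hE (Or.inr h₁)).resolve_left fun e =>
    absurd (Nat.pow_right_injective hp.out.two_le (e.2.symm.trans h₁.1)) (by decide)
  refine ⟨e₁, e₂, e₃, ⟨isMulCommutative_of_commute fun x y => Subtype.ext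
    ((h.elem.comm ⟨x, hE₂ x.2⟩ x.2 ⟨y, hE₂ y.2⟩ y.2).map S.subtype).eq, fun x hx =>
      congrArg Subtype.val (h.elem.pow ⟨x, hE₂ hx⟩ hx)⟩, ?_⟩
  rw [← Nat.card_congr (subgroupOfEquivOfLe hE₂).toEquiv]
  exact card_eq_of_index (n := 1) hp.out.pos h.card (by simpa using h.idx)

end Fusion

end Cfsg.Agent.Ess
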